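import Groth.Agent.OpenRestrH.Basic
import Groth.Prelude.Def_Coh

/-!
# Cohomology of a module on an open subscheme
-/

set_option autoImplicit false
set_option linter.style.haveILetI false

universe u

open CategoryTheory CategoryTheory.Limits TopologicalSpace Opposite AlgebraicGeometry

noncomputable section

namespace Groth.Agent.OpenRestrH

/-- `Hⁿ(U, M|_U)` is the cohomology of `M` on `U`. -/
theorem nonempty_HHon_equiv (X : Scheme.{u}) (M : X.Modules) (U : X.Opens) (n : ℕ) :
    Nonempty (CohTop.HU (X := X.toTopCat) (Coh.toAb M) n U ≃+ Coh.HHon X M U n) :=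
  nonempty_equiv (X := X.toTopCat) U (Coh.toAb M) n

theorem subsingleton_HHon (X : Scheme.{u}) (M : X.Modules) (U : X.Opens) (n : ℕ)
    (h : Subsingleton (CohTop.HU (X := X.toTopCat) (Coh.toAb M) n U)) :
    Subsingleton (Coh.HHon X M U n) := by
  obtain ⟨e⟩ := nonempty_HHon_equiv X M U n
  exact e.symm.toEquiv.subsingleton

end Groth.Agent.OpenRestrH
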