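import Groth.Agent.OpenRestrH.Basic
import Groth.Agent.KInj.DerivedAdj
import Groth.Agent.LocZLib.Basic
import Groth.Prelude.Def_CohCx

/-!
# Hypercohomology on an open agrees with that of the restriction
-/

set_option autoImplicit false
set_option linter.style.haveILetI false

universe w w' v v' u u₁

open CategoryTheory CategoryTheory.Limits TopologicalSpace Opposite

noncomputable section

namespace Groth.Agent.OpenRestrH

/-- An adjunction of exact functors induces one on derived categories. -/
theorem nonempty_derived_adjunction {A : Type u} [Category.{v} A] [Abelian A] [HasDerivedCategory.{w} A]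
    {B : Type u₁} [Category.{v'} B] [Abelian B] [HasDerivedCategory.{w'} B] {F : A ⥤ B} {G : B ⥤ A}
    (adj : F ⊣ G) [F.Additive] [G.Additive] [PreservesFiniteLimits F] [PreservesFiniteColimits F]
    [PreservesFiniteLimits G] [PreservesFiniteColimits G] :
    Nonempty (F.mapDerivedCategory ⊣ G.mapDerivedCategory) := by
  letI : CatCommSq (F.mapHomotopyCategory (ComplexShape.up ℤ)) DerivedCategory.Qh DerivedCategory.Qh
      F.mapDerivedCategory := ⟨F.mapDerivedCategoryFactorsh.symm⟩
  letI : CatCommSq (G.mapHomotopyCategory (ComplexShape.up ℤ)) DerivedCategory.Qh DerivedCategory.Qh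
      G.mapDerivedCategory := ⟨G.mapDerivedCategoryFactorsh.symm⟩
  exact ⟨(KInj.homotopyAdjunction adj).localization DerivedCategory.Qh
    (HomotopyCategory.quasiIso A (ComplexShape.up ℤ)) DerivedCategory.Qh
    (HomotopyCategory.quasiIso B (ComplexShape.up ℤ)) F.mapDerivedCategory G.mapDerivedCategory⟩

variable {X : TopCat.{u}} (U : Opens X)

/-- Extension by zero sends the free sheaf on `U` to the free sheaf on its image. -/
theorem nonempty_extend_free_iso :
    Nonempty ((LocZLib.extendOpen (g := CohCx.incl U) U.isOpenEmbedding).obj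
      (CohBase.freeAb (⊤ : Opens (TopCat.of U))) ≅ CohBase.freeAb (img U)) := by
  let adj := LocZLib.extendOpenAdj (g := CohCx.incl U) U.isOpenEmbedding
  let η := (CohBase.secEquiv (⊤ : Opens (TopCat.of U)) ((CohTop.restrFunctor U).obj (CohBase.freeAb (img U)))).symm
        (CohBase.secEquiv (img U) _ (𝟙 _))
  let φ := (adj.homEquiv _ _).symm η
  have h : ∀ M : CohTop.Ab X, Function.Bijective fun ψ : CohBase.freeAb (img U) ⟶ M => φ ≫ ψ := fun M => by
    have e : (fun ψ : CohBase.freeAb (img U) ⟶ M => φ ≫ ψ) =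
        (adj.homEquiv _ M).symm ∘ fun ψ => η ≫ (CohTop.restrFunctor U).map ψ :=
      funext fun ψ => (adj.homEquiv_naturality_right_symm η ψ).symm
    rw [e]
    exact (Equiv.bijective _).comp (bijective_unit U M)
  haveI : IsIso φ := by
    obtain ⟨ψ, hψ⟩ := (h _).2 (𝟙 _)
    refine ⟨ψ, hψ, (h _).1 ?_⟩
    show φ ≫ ψ ≫ φ = φ ≫ 𝟙 _
    rw [← Category.assoc, show φ ≫ ψ = 𝟙 _ from hψ, Category.id_comp, Category.comp_id]
  exact ⟨asIso φ⟩

theorem nonempty_HDU_equiv [HasDerivedCategory.{w} (CohTop.Ab X)]
    [HasDerivedCategory.{w} (CohTop.Ab (TopCat.of U))]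
    [PreservesFiniteLimits (CohTop.restrFunctor U)] [PreservesFiniteColimits (CohTop.restrFunctor U)]
    (K : DerivedCategory (CohTop.Ab X)) (p : ℤ) :
    Nonempty (CohCx.HDU K p U ≃+ CohCx.HDU ((CohTop.restrFunctor U).mapDerivedCategory.obj K) p ⊤) := by
  let L := LocZLib.extendOpen (g := CohCx.incl U) U.isOpenEmbedding
  let adj : L ⊣ CohTop.restrFunctor U := LocZLib.extendOpenAdj (g := CohCx.incl U) U.isOpenEmbedding
  haveI : L.Additive := adj.left_adjoint_additive
  haveI : L.PreservesMonomorphisms :=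
    LocZLib.preservesMonomorphisms_extendOpen (g := CohCx.incl U) U.isOpenEmbedding
      (LocZLib.hasComponentTerminals U)
  haveI := KInj.preservesFiniteLimits_of_preservesMonomorphisms adj
  haveI : PreservesFiniteColimits L :=
    haveI : PreservesColimitsOfSize.{0, 0} L := adj.leftAdjoint_preservesColimits
    inferInstance
  obtain ⟨D⟩ := nonempty_derived_adjunction adj
  obtain ⟨i⟩ := nonempty_extend_free_iso U
  haveI := D.left_adjoint_additive
  have hi : img U = U := img_eq U
  let j : L.obj (CohBase.freeAb (⊤ : Opens (TopCat.of U))) ≅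
      CohCx.freeSheaf (Opens.grothendieckTopology X) U :=
    i ≪≫ eqToIso (congrArg (CohBase.freeAb (X := X)) hi)
  let s := (L.mapDerivedCategorySingleFunctor 0).app (CohBase.freeAb (⊤ : Opens (TopCat.of U))) ≪≫
    (DerivedCategory.singleFunctor (CohTop.Ab X) 0).mapIso j
  let t := ((CohTop.restrFunctor U).mapDerivedCategory.commShiftIso p).app K
  exact ⟨(AddEquiv.ofBijective (Preadditive.leftComp ((shiftFunctor (DerivedCategory (CohTop.Ab X)) p).obj K) s.hom)
      ⟨fun a b e => (cancel_epi s.hom).1 e, fun z => ⟨s.inv ≫ z, s.hom_inv_id_assoc z⟩⟩).trans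
    ((D.homAddEquiv _ _).trans (AddEquiv.ofBijective (Preadditive.rightComp
      ((DerivedCategory.singleFunctor (CohTop.Ab (TopCat.of U)) 0).obj (CohBase.freeAb (⊤ : Opens (TopCat.of U)))) t.hom)
      ⟨fun a b e => (cancel_mono t.hom).1 e, fun z => ⟨z ≫ t.inv, (Category.assoc _ _ _).trans
        ((congrArg (z ≫ ·) t.inv_hom_id).trans (Category.comp_id z))⟩⟩))⟩

end Groth.Agent.OpenRestrH
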