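import Groth.Agent.LocZLib.Flasque
import Groth.Agent.SpSeqLib.DerivedComp

/-!
# Higher direct images and restriction to an open of the base
-/

set_option autoImplicit false
set_option linter.style.haveILetI false

universe u

open CategoryTheory CategoryTheory.Limits TopologicalSpace Opposite

noncomputable section

namespace Groth.Agent.OpenRestrH

variable {X Y : TopCat.{u}} (f : X ⟶ Y) (V : Opens Y)

/-- The restricted map. -/
abbrev fV : TopCat.of ((Opens.map f).obj V) ⟶ TopCat.of V :=
  TopCat.ofHom ⟨(V : Set Y).restrictPreimage f, f.hom.continuous.restrictPreimage⟩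

theorem functor_map_comm (W : Opens (TopCat.of V)) :
    ((Opens.map f).obj V).isOpenEmbedding.isOpenMap.functor.obj ((Opens.map (fV f V)).obj W) =
      (Opens.map f).obj (V.isOpenEmbedding.isOpenMap.functor.obj W) := by
  ext x
  constructor
  · rintro ⟨y, hy, rfl⟩
    exact ⟨fV f V y, hy, rfl⟩
  · rintro ⟨b, hb, hbx⟩
    have hx : x ∈ (Opens.map f).obj V := by
      show f x ∈ V
      rw [← show b.1 = f x from hbx]
      exact b.2
    refine ⟨⟨x, hx⟩, ?_, rfl⟩
    show fV f V ⟨x, hx⟩ ∈ W
    rw [show fV f V ⟨x, hx⟩ = b from Subtype.ext hbx.symm]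
    exact hb

/-- The presheaf isomorphism on an object. -/
def baseRestrPreIso (F : CohTop.Ab X) :
    ((CohTop.push f ⋙ CohTop.restrFunctor V).obj F).obj ≅
      ((CohTop.restrFunctor ((Opens.map f).obj V) ⋙ CohTop.push (fV f V)).obj F).obj :=
  NatIso.ofComponents (fun W => F.obj.mapIso (eqToIso (congrArg op (functor_map_comm f V W.unop).symm)))
    fun {W W'} h => by
      change F.obj.map _ ≫ F.obj.map _ = F.obj.map _ ≫ F.obj.map _
      rw [← F.obj.map_comp, ← F.obj.map_comp]
      rfl

/-- Restriction commutes with direct images. -/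
def baseRestrIso : CohTop.push f ⋙ CohTop.restrFunctor V ≅
    CohTop.restrFunctor ((Opens.map f).obj V) ⋙ CohTop.push (fV f V) :=
  NatIso.ofComponents (fun F => (fullyFaithfulSheafToPresheaf _ _).preimageIso (baseRestrPreIso f V F))
    fun {F G} φ => Sheaf.hom_ext (NatTrans.ext (funext fun W =>
      (φ.hom.naturality (eqToHom (congrArg op (functor_map_comm f V W.unop).symm))).symm))

theorem nonempty_restr_Rpush_iso (F : CohTop.Ab X) (p : ℕ) :
    Nonempty (CohTop.restr ((CohTop.Rpush f p).obj F) V ≅
      (CohTop.Rpush (fV f V) p).obj (CohTop.restr F ((Opens.map f).obj V))) := by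
  haveI : PreservesFiniteLimits (CohTop.restrFunctor V) :=
    haveI : PreservesLimitsOfSize.{0, 0} (CohTop.restrFunctor V) :=
      (LocZLib.extendOpenAdj (g := CohCx.incl V) V.isOpenEmbedding).rightAdjoint_preservesLimits
    inferInstance
  haveI : PreservesFiniteColimits (CohTop.restrFunctor V) :=
    haveI : PreservesColimitsOfSize.{0, 0} (CohTop.restrFunctor V) :=
      (LocZLib.restrPushAdj V).leftAdjoint_preservesColimits
    inferInstance
  haveI : PreservesFiniteLimits (CohTop.restrFunctor ((Opens.map f).obj V)) :=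
    haveI : PreservesLimitsOfSize.{0, 0} (CohTop.restrFunctor ((Opens.map f).obj V)) :=
      (LocZLib.extendOpenAdj (g := CohCx.incl ((Opens.map f).obj V))
        ((Opens.map f).obj V).isOpenEmbedding).rightAdjoint_preservesLimits
    inferInstance
  haveI : PreservesFiniteColimits (CohTop.restrFunctor ((Opens.map f).obj V)) :=
    haveI : PreservesColimitsOfSize.{0, 0} (CohTop.restrFunctor ((Opens.map f).obj V)) :=
      (LocZLib.restrPushAdj ((Opens.map f).obj V)).leftAdjoint_preservesColimits
    inferInstance
  haveI : (CohTop.push (fV f V)).Additive := { map_add := rfl }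
  haveI : (CohTop.restrFunctor ((Opens.map f).obj V) ⋙ CohTop.push (fV f V)).Additive := inferInstance
  exact ⟨(SpSeqLib.rightDerivedPostcompIso (F := CohTop.push f) (E := CohTop.restrFunctor V) p).symm.app F ≪≫
    (SpSeqLib.rightDerivedCongr (baseRestrIso f V) p).app F ≪≫
    (SpSeqLib.rightDerivedPrecompIso (CohTop.restrFunctor ((Opens.map f).obj V))
      (fun I hI => haveI := hI; LocZLib.injective_restr _ I) (CohTop.push (fV f V)) p).app F⟩

end Groth.Agent.OpenRestrH
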