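import Groth.Agent.LocZLib.Basic
import Groth.Agent.SiteBase.ExtAdjoint
import Groth.Agent.CohBase.Basic

/-!
# Cohomology on an open agrees with cohomology of the restriction
-/

set_option autoImplicit false
set_option linter.style.haveILetI false

universe u

open CategoryTheory CategoryTheory.Limits TopologicalSpace Opposite Abelian

noncomputable section

namespace Groth.Agent.OpenRestrH

variable {X : TopCat.{u}} (U : Opens X)

/-- The image of the whole open subspace. -/
abbrev img : Opens X :=
  U.isOpenEmbedding.isOpenMap.functor.obj (⊤ : Opens (TopCat.of U))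

theorem img_eq : img U = U := Opens.isOpenEmbedding_obj_top U

theorem bijective_unit (M : CohTop.Ab X) :
    Function.Bijective fun φ : CohBase.freeAb (img U) ⟶ M =>
      (CohBase.secEquiv (⊤ : Opens (TopCat.of U)) ((CohTop.restrFunctor U).obj (CohBase.freeAb (img U)))).symm
        (CohBase.secEquiv (img U) _ (𝟙 _)) ≫ (CohTop.restrFunctor U).map φ := by
  have h : ∀ φ : CohBase.freeAb (img U) ⟶ M,
      CohBase.secEquiv (⊤ : Opens (TopCat.of U)) _
        ((CohBase.secEquiv (⊤ : Opens (TopCat.of U)) ((CohTop.restrFunctor U).obj (CohBase.freeAb (img U)))).symm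
          (CohBase.secEquiv (img U) _ (𝟙 _)) ≫ (CohTop.restrFunctor U).map φ) =
      CohBase.secEquiv (img U) M φ := fun φ => by
    rw [CohBase.secEquiv_comp, AddEquiv.apply_symm_apply]
    exact ((CohBase.secEquiv_comp (img U) (𝟙 _) φ).symm.trans (by rw [Category.id_comp]))
  constructor
  · intro φ ψ e
    exact (CohBase.secEquiv (img U) M).injective
      ((h φ).symm.trans ((congrArg (CohBase.secEquiv (⊤ : Opens (TopCat.of U)) _) e).trans (h ψ)))
  · intro x
    refine ⟨(CohBase.secEquiv (img U) M).symm (CohBase.secEquiv (⊤ : Opens (TopCat.of U)) _ x),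
      (CohBase.secEquiv (⊤ : Opens (TopCat.of U)) _).injective ?_⟩
    exact (h _).trans (AddEquiv.apply_symm_apply _ _)

/-- `Hⁿ(U, F) ≃ Hⁿ(U, F|_U)`. -/
theorem nonempty_equiv (F : CohTop.Ab X) (n : ℕ) :
    Nonempty (CohTop.HU F n U ≃+ CohTop.H (CohTop.restr F U) n) := by
  have key : Nonempty (CohBase.HU (img U) F n ≃+ CohTop.H (CohTop.restr F U) n) := by
    haveI : PreservesFiniteLimits (CohTop.restrFunctor U) :=
      haveI : PreservesLimitsOfSize.{0, 0} (CohTop.restrFunctor U) :=
        (LocZLib.extendOpenAdj (g := CohCx.incl U) U.isOpenEmbedding).rightAdjoint_preservesLimits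
      inferInstance
    haveI : PreservesFiniteColimits (CohTop.restrFunctor U) :=
      haveI : PreservesColimitsOfSize.{0, 0} (CohTop.restrFunctor U) :=
        (LocZLib.restrPushAdj U).leftAdjoint_preservesColimits
      inferInstance
    refine ⟨(SiteBase.extUnitEquiv (G := CohTop.restrFunctor U) _ (bijective_unit U) (fun I _ m => ?_) F n).trans
      (CohBase.HEquiv (X := U) (CohTop.restr F U) n).symm⟩
    haveI : Injective ((CohTop.restrFunctor U).obj I) := LocZLib.injective_restr U I
    exact Ext.subsingleton_of_injective _ _ m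
  rw [img_eq] at key
  exact key

end Groth.Agent.OpenRestrH
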